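import Groth.Prelude.Def_W4stkflatp2Cpct
import Mathlib.AlgebraicGeometry.Morphisms.Immersion
import Mathlib.AlgebraicGeometry.Morphisms.QuasiSeparated
import Mathlib.CategoryTheory.Localization.CalculusOfFractions
import Mathlib.CategoryTheory.Localization.Predicate

/-!
Calculus of fractions in the category of compactifications.
-/

set_option autoImplicit false
set_option linter.style.haveILetI false
universe u

open CategoryTheory CategoryTheory.Limits AlgebraicGeometry

namespace Groth.Agent.CpctFrac

open Cpct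

variable {S : Scheme.{u}}

lemma restr_ι {A B : Pair S} (f : A ⟶ B) : restr f ≫ B.U.ι = A.U.ι ≫ (Pair.Hom.bar f).left :=
  Scheme.Hom.resLE_comp_ι _ _

lemma restr_comp {A B C : Pair S} (f : A ⟶ B) (g : B ⟶ C) : restr (f ≫ g) = restr f ≫ restr g := by
  have h := congrArg CommaMorphism.left (openOver.map_comp f g)
  simp only [Over.comp_left] at h
  exact h

lemma restr_id (A : Pair S) : restr (𝟙 A) = 𝟙 _ := by
  have h := congrArg CommaMorphism.left (openOver.map_id A)
  simp only [Over.id_left] at h
  exact h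

lemma restr_ι_hom {A B : Pair S} (f : A ⟶ B) : restr f ≫ B.U.ι ≫ B.bar.hom = A.U.ι ≫ A.bar.hom :=
  Over.w (openOver.map f)

lemma isCompact_opensRange {A : Pair S} {T : Scheme.{u}} (l : (A.U : Scheme.{u}) ⟶ T) [IsOpenImmersion l] :
    IsCompact (l.opensRange : Set T) := by
  haveI : CompactSpace (A.U : Scheme.{u}) := isCompact_iff_compactSpace.1 A.isCompact
  exact isCompact_range l.continuous

lemma mem_of_mem_opensRange {A : Pair S} {T : Scheme.{u}} (t : T ⟶ A.bar.left)
    (l : (A.U : Scheme.{u}) ⟶ T) [IsOpenImmersion l] (hl : l ≫ t = A.U.ι) {x : T} (hx : x ∈ l.opensRange) :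
    t.base x ∈ A.U := by
  obtain ⟨a, rfl⟩ := hx
  have h : (l ≫ t).base a = A.U.ι.base a := congrArg (fun φ => φ.base a) hl
  exact h.symm ▸ a.2

/-- Replace `X̄` by a proper `X̄`-scheme containing `X`. -/
noncomputable def refine' (A : Pair S) {T : Scheme.{u}} (t : T ⟶ A.bar.left) [IsProper t]
    (l : (A.U : Scheme.{u}) ⟶ T) [IsOpenImmersion l] : Pair S where
  bar := Over.mk (t ≫ A.bar.hom)
  U := l.opensRange
  isProper := by
    haveI := A.isProper
    exact inferInstanceAs (IsProper (t ≫ A.bar.hom))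
  isCompact := isCompact_opensRange l

/-- The map from the refinement. -/
noncomputable def refineHom (A : Pair S) {T : Scheme.{u}} (t : T ⟶ A.bar.left) [IsProper t]
    (l : (A.U : Scheme.{u}) ⟶ T) [IsOpenImmersion l] (hl : l ≫ t = A.U.ι) : refine' A t l ⟶ A :=
  ⟨Over.homMk t rfl, fun _ hx => mem_of_mem_opensRange t l hl hx⟩

variable (A : Pair S) {T : Scheme.{u}} (t : T ⟶ A.bar.left) [IsProper t]
    (l : (A.U : Scheme.{u}) ⟶ T) [IsOpenImmersion l] (hl : l ≫ t = A.U.ι)

/-- The open part of a refinement. -/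
noncomputable def refineIso : (A.U : Scheme.{u}) ≅ ((refine' A t l).U : Scheme.{u}) := l.isoOpensRange

lemma refineIso_hom_ι : (refineIso A t l).hom ≫ (refine' A t l).U.ι = l := l.isoOpensRange_hom_ι

lemma refineIso_restr : (refineIso A t l).hom ≫ restr (refineHom A t l hl) = 𝟙 _ := by
  rw [← cancel_mono A.U.ι, Category.assoc, restr_ι, Category.id_comp]
  exact (Category.assoc _ _ _).symm.trans ((congrArg (· ≫ t) (refineIso_hom_ι A t l)).trans hl)

lemma isoOpen_refineHom : isoOpen S (refineHom A t l hl) :=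
  ⟨(refineIso A t l).hom, by
    rw [← cancel_epi (refineIso A t l).hom, reassoc_of% (refineIso_restr A t l hl)]
    exact (Category.comp_id _).symm, refineIso_restr A t l hl⟩

variable [CompactSpace S] [QuasiSeparatedSpace S]

omit [CompactSpace S] [QuasiSeparatedSpace S] t l in
/-- Two morphisms with the same open part are equalized by a refinement. -/
lemma exists_equalizing {A B : Pair S} (f g : A ⟶ B) (h : restr f = restr g) :
    ∃ (A' : Pair S) (e : A' ⟶ A), isoOpen S e ∧ e ≫ f = e ≫ g := by
  haveI := B.isProper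
  let Δ := pullback.diagonal B.bar.hom
  let fg : A.bar.left ⟶ pullback B.bar.hom B.bar.hom :=
    pullback.lift (Pair.Hom.bar f).left (Pair.Hom.bar g).left ((Over.w _).trans (Over.w _).symm)
  let t : pullback fg Δ ⟶ A.bar.left := pullback.fst fg Δ
  haveI : IsClosedImmersion t := inferInstanceAs (IsClosedImmersion (pullback.fst fg Δ))
  have hts : t ≫ (Pair.Hom.bar f).left = t ≫ (Pair.Hom.bar g).left := by
    have h1 : t ≫ (Pair.Hom.bar f).left = pullback.snd fg Δ := by
      have := congrArg (· ≫ pullback.fst B.bar.hom B.bar.hom) (pullback.condition (f := fg) (g := Δ))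
      simpa [fg, Δ, t, pullback.lift_fst] using this
    have h2 : t ≫ (Pair.Hom.bar g).left = pullback.snd fg Δ := by
      have := congrArg (· ≫ pullback.snd B.bar.hom B.bar.hom) (pullback.condition (f := fg) (g := Δ))
      simpa [fg, Δ, t, pullback.lift_snd] using this
    exact h1.trans h2.symm
  let l : (A.U : Scheme.{u}) ⟶ pullback fg Δ := pullback.lift A.U.ι (restr f ≫ B.U.ι) (by
    apply pullback.hom_ext
    · simp [fg, Δ, pullback.lift_fst, restr_ι]
    · simp [fg, Δ, pullback.lift_snd, h, restr_ι])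
  have hl : l ≫ t = A.U.ι := pullback.lift_fst _ _ _
  haveI : IsOpenImmersion l := by
    have sq : IsPullback l (𝟙 _) t A.U.ι :=
      { w := by rw [hl, Category.id_comp]
        isLimit' := ⟨PullbackCone.IsLimit.mk _ (fun c => c.snd)
          (fun c => by rw [← cancel_mono t, Category.assoc, hl]; exact c.condition.symm)
          (fun c => Category.comp_id _) (fun c m _ h => (Category.comp_id m).symm.trans h)⟩ }
    exact MorphismProperty.of_isPullback (P := @IsOpenImmersion) sq.flip inferInstance
  exact ⟨_, refineHom A t l hl, isoOpen_refineHom A t l hl, Pair.Hom.ext (Over.OverMorphism.ext hts)⟩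

omit [CompactSpace S] t l in
/-- Every morphism of open parts extends after a refinement. -/
lemma exists_extension {A B : Pair S} (φ : (A.U : Scheme.{u}) ⟶ B.U)
    (hφ : φ ≫ B.U.ι ≫ B.bar.hom = A.U.ι ≫ A.bar.hom) :
    ∃ (A' : Pair S) (v : A' ⟶ A) (w : A' ⟶ B), isoOpen S v ∧ restr w = restr v ≫ φ := by
  haveI := A.isProper
  haveI := B.isProper
  haveI : CompactSpace (A.U : Scheme.{u}) := isCompact_iff_compactSpace.1 A.isCompact
  let i : (A.U : Scheme.{u}) ⟶ pullback A.bar.hom B.bar.hom :=
    pullback.lift A.U.ι (φ ≫ B.U.ι) ((hφ.symm).trans (Category.assoc _ _ _).symm)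
  haveI : IsImmersion (i ≫ pullback.fst A.bar.hom B.bar.hom) := by
    rw [pullback.lift_fst]; infer_instance
  haveI : IsImmersion i := IsImmersion.of_comp i (pullback.fst A.bar.hom B.bar.hom)
  haveI : QuasiSeparatedSpace ↥(pullback A.bar.hom B.bar.hom) :=
    quasiSeparatedSpace_of_quasiSeparated (pullback.fst A.bar.hom B.bar.hom ≫ A.bar.hom)
  haveI : QuasiCompact i := inferInstance
  let t : i.image ⟶ A.bar.left := i.imageι ≫ pullback.fst A.bar.hom B.bar.hom
  let t' : i.image ⟶ B.bar.left := i.imageι ≫ pullback.snd A.bar.hom B.bar.hom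
  have hl : i.toImage ≫ t = A.U.ι := by
    rw [Scheme.Hom.toImage_imageι_assoc]; exact pullback.lift_fst _ _ _
  have hl' : i.toImage ≫ t' = φ ≫ B.U.ι := by
    rw [Scheme.Hom.toImage_imageι_assoc]; exact pullback.lift_snd _ _ _
  let v := refineHom A t i.toImage hl
  let w : refine' A t i.toImage ⟶ B :=
    ⟨Over.homMk t' (by simp [refine', t, t', pullback.condition]), fun x hx => by
      obtain ⟨a, rfl⟩ := hx
      have h : (i.toImage ≫ t').base a = (φ ≫ B.U.ι).base a := congrArg (fun ψ => ψ.base a) hl'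
      exact h.symm ▸ (φ.base a).2⟩
  refine ⟨_, v, w, isoOpen_refineHom A t i.toImage hl, ?_⟩
  rw [← cancel_epi (refineIso A t i.toImage).hom, reassoc_of% (refineIso_restr A t i.toImage hl),
    ← cancel_mono B.U.ι, Category.assoc, restr_ι]
  exact (Category.assoc _ _ _).symm.trans ((congrArg (· ≫ t') (refineIso_hom_ι A t i.toImage)).trans hl')

end Groth.Agent.CpctFrac
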