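import Groth.Agent.CpctFrac.Basic

/-!
The open part functor is a localization.
-/

set_option autoImplicit false
set_option linter.style.haveILetI false
universe u

open CategoryTheory CategoryTheory.Limits AlgebraicGeometry

namespace Groth.Agent.CpctFrac

open Cpct

variable (S : Scheme.{u})

instance isMultiplicative : (isoOpen S).IsMultiplicative where
  id_mem A := by
    change IsIso (restr (𝟙 A))
    rw [restr_id]; infer_instance
  comp_mem f g hf hg := by
    change IsIso (restr (f ≫ g))
    haveI : IsIso (restr f) := hf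
    haveI : IsIso (restr g) := hg
    rw [restr_comp]; infer_instance

theorem hasRightCalculusOfFractions [CompactSpace S] [QuasiSeparatedSpace S] :
    (isoOpen S).HasRightCalculusOfFractions where
  exists_rightFraction X Y φ := by
    haveI : IsIso (restr φ.s) := φ.hs
    obtain ⟨A', v, w, hv, hw⟩ := exists_extension (A := X) (B := Y) (restr φ.f ≫ inv (restr φ.s)) (by
      rw [← restr_ι_hom φ.s, Category.assoc, IsIso.inv_hom_id_assoc]
      exact restr_ι_hom φ.f)
    obtain ⟨A'', e, he, heq⟩ := exists_equalizing (v ≫ φ.f) (w ≫ φ.s)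
      (by rw [restr_comp, restr_comp, hw, Category.assoc, Category.assoc, IsIso.inv_hom_id, Category.comp_id])
    exact ⟨⟨e ≫ v, (isoOpen S).comp_mem _ _ he hv, e ≫ w⟩, by simpa using heq⟩
  ext {X Y Y'} f₁ f₂ s hs h := by
    haveI : IsIso (restr s) := hs
    obtain ⟨A', e, he, heq⟩ := exists_equalizing f₁ f₂
      (by rw [← cancel_mono (restr s), ← restr_comp, ← restr_comp, h])
    exact ⟨A', e, he, heq⟩

theorem inverts_openFunctor : (isoOpen S).IsInvertedBy (openFunctor S) := by
  intro A B f hf
  haveI : IsIso (restr f) := hf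
  haveI : IsIso ((Over.forget S).map (openOver.map f)) := hf
  haveI : IsIso (openOver.map f) := isIso_of_reflects_iso _ (Over.forget S)
  haveI : IsIso ((ObjectProperty.ι (IsCompactifyable S)).map ((openFunctor S).map f)) :=
    inferInstanceAs (IsIso (openOver.map f))
  exact isIso_of_reflects_iso _ (ObjectProperty.ι (IsCompactifyable S))

/-- The open part of a morphism of compactifyable schemes. -/
noncomputable abbrev openHom {A B : Pair S} (g : (openFunctor S).obj A ⟶ (openFunctor S).obj B) :
    (A.U : Scheme.{u}) ⟶ B.U :=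
  ((ObjectProperty.ι (IsCompactifyable S)).map g).left

variable {S} in
lemma openFunctor_ext {A B : Pair S} {g g' : (openFunctor S).obj A ⟶ (openFunctor S).obj B}
    (h : openHom S g = openHom S g') : g = g' :=
  (ObjectProperty.ι (IsCompactifyable S)).map_injective (Over.OverMorphism.ext h)

theorem isLocalization [CompactSpace S] [QuasiSeparatedSpace S] :
    (openFunctor S).IsLocalization (isoOpen S) := by
  haveI := hasRightCalculusOfFractions S
  have hinv := inverts_openFunctor S
  let Q := (isoOpen S).Q
  let G := Localization.lift (openFunctor S) hinv Q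
  let e : Q ⋙ G ≅ openFunctor S := Localization.fac (openFunctor S) hinv Q
  haveI hQ : Q.EssSurj := Localization.essSurj Q (isoOpen S)
  haveI : G.EssSurj := ⟨fun X => by
    obtain ⟨A, ⟨i⟩⟩ := X.2
    exact ⟨Q.obj A, ⟨e.app A ≪≫ (ObjectProperty.ι (IsCompactifyable S)).preimageIso i⟩⟩⟩
  have key : ∀ {A B : Pair S},
      Function.Bijective (fun a : Q.obj A ⟶ Q.obj B => e.inv.app A ≫ G.map a ≫ e.hom.app B) := by
    intro A B
    have hQmap : ∀ {C D : Pair S} (f : C ⟶ D),
        G.map (Q.map f) = e.hom.app C ≫ (openFunctor S).map f ≫ e.inv.app D := by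
      intro C D f
      rw [← Category.assoc, ← e.hom.naturality f, Category.assoc, Iso.hom_inv_id_app, Category.comp_id]
      rfl
    have hfrac : ∀ {C : Pair S} (v : C ⟶ A) (w : C ⟶ B) [IsIso (Q.map v)],
        (openFunctor S).map v ≫ (e.inv.app A ≫ G.map (inv (Q.map v) ≫ Q.map w) ≫ e.hom.app B) =
          (openFunctor S).map w := by
      intro C v w _
      have h1 : (openFunctor S).map v ≫ e.inv.app A = e.inv.app C ≫ G.map (Q.map v) := by
        rw [hQmap, Iso.inv_hom_id_app_assoc]
      rw [reassoc_of% h1, ← G.map_comp_assoc, IsIso.hom_inv_id_assoc, hQmap]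
      simp only [Category.assoc, Iso.inv_hom_id_app_assoc]
      exact (congrArg ((openFunctor S).map w ≫ ·) (e.inv_hom_id_app B)).trans (Category.comp_id _)
    constructor
    · intro a b hab
      obtain ⟨φ, rfl⟩ := Localization.exists_rightFraction Q (isoOpen S) a
      obtain ⟨ψ, rfl⟩ := Localization.exists_rightFraction Q (isoOpen S) b
      obtain ⟨χ, hχ⟩ := (MorphismProperty.LeftFraction.mk φ.s ψ.s ψ.hs :
        (isoOpen S).LeftFraction φ.X' ψ.X').exists_rightFraction
      dsimp at hχ
      haveI := Localization.inverts Q (isoOpen S) φ.s φ.hs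
      haveI := Localization.inverts Q (isoOpen S) ψ.s ψ.hs
      haveI := Localization.inverts Q (isoOpen S) χ.s χ.hs
      haveI := hinv φ.s φ.hs
      haveI := hinv χ.s χ.hs
      haveI := hinv ψ.s ψ.hs
      change e.inv.app A ≫ G.map (φ.map Q (Localization.inverts Q _)) ≫ e.hom.app B =
        e.inv.app A ≫ G.map (ψ.map Q (Localization.inverts Q _)) ≫ e.hom.app B at hab
      simp only [MorphismProperty.RightFraction.map] at hab ⊢
      have h1 : (openFunctor S).map (χ.s ≫ φ.f) = (openFunctor S).map (χ.f ≫ ψ.f) := by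
        rw [Functor.map_comp, Functor.map_comp, ← hfrac φ.s φ.f, ← hfrac ψ.s ψ.f, hab,
          ← Category.assoc ((openFunctor S).map χ.s), ← Category.assoc ((openFunctor S).map χ.f),
          ← (openFunctor S).map_comp, ← (openFunctor S).map_comp, hχ]
      obtain ⟨C, t, ht, heq⟩ := exists_equalizing (χ.s ≫ φ.f) (χ.f ≫ ψ.f)
        (congrArg (fun g => openHom S g) h1)
      haveI := Localization.inverts Q (isoOpen S) t ht
      have h2 : Q.map (χ.s ≫ φ.f) = Q.map (χ.f ≫ ψ.f) :=
        (cancel_epi (Q.map t)).1 (by rw [← Q.map_comp, ← Q.map_comp, heq])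
      rw [← cancel_epi (Q.map φ.s), ← cancel_epi (Q.map χ.s)]
      rw [IsIso.hom_inv_id_assoc, ← Q.map_comp, h2, ← Category.assoc, ← Q.map_comp, hχ, Q.map_comp, Q.map_comp,
        Category.assoc, IsIso.hom_inv_id_assoc]
    · intro g
      obtain ⟨C, v, w, hv, hw⟩ := exists_extension (A := A) (B := B) (openHom S g)
        (Over.w ((ObjectProperty.ι (IsCompactifyable S)).map g))
      haveI := Localization.inverts Q (isoOpen S) v hv
      haveI := hinv v hv
      refine ⟨inv (Q.map v) ≫ Q.map w, ?_⟩
      rw [← cancel_epi ((openFunctor S).map v), hfrac]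
      exact openFunctor_ext hw
  haveI : G.Faithful := ⟨fun {X Y} f g h => by
    rw [← cancel_epi (Q.objObjPreimageIso X).hom, ← cancel_mono (Q.objObjPreimageIso Y).inv]
    exact key.1 (by simp [h])⟩
  haveI : G.Full := ⟨fun {X Y} g => by
    obtain ⟨a, ha⟩ := key.2 (e.inv.app (Q.objPreimage X) ≫ (G.map (Q.objObjPreimageIso X).hom ≫ g ≫
      G.map (Q.objObjPreimageIso Y).inv) ≫ e.hom.app (Q.objPreimage Y))
    rw [cancel_epi, cancel_mono] at ha
    refine ⟨(Q.objObjPreimageIso X).inv ≫ a ≫ (Q.objObjPreimageIso Y).hom, ?_⟩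
    rw [G.map_comp, G.map_comp, ha]
    simp⟩
  haveI : G.IsEquivalence := {}
  exact Functor.IsLocalization.of_equivalence_target Q (isoOpen S) (openFunctor S) G.asEquivalence e

end Groth.Agent.CpctFrac
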